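import Groth.Agent.RPushQC.SectionsExact
import Groth.Agent.DQCoh.Serre
import Mathlib.CategoryTheory.Abelian.Subcategory
import Mathlib.CategoryTheory.Preadditive.LeftExact
import Mathlib.CategoryTheory.Limits.Preserves.Finite

/-!
Quasi-coherent modules form an abelian subcategory of all modules.
-/

set_option autoImplicit false
set_option backward.isDefEq.respectTransparency false
set_option backward.isDefEq.respectTransparency.types false
set_option linter.style.haveILetI false

universe u

open CategoryTheory Limits AlgebraicGeometry ZeroObject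

noncomputable section

namespace Groth.Agent.SubRes

/-- quasi-coherence -/
abbrev qP' (X : Scheme.{u}) : ObjectProperty X.Modules := fun M => Coh.IsQCoh M

variable (X : Scheme.{u})

theorem qc_containsZero : (qP' X).ContainsZero :=
  ⟨⟨_, isZero_zero X.Modules, DQCoh.isQCoh_of_isZero (isZero_zero X.Modules)⟩⟩

theorem qc_kernels : (qP' X).IsClosedUnderKernels where
  kernels_le := by
    rintro K ⟨f, k, hk, hf⟩
    exact QC.isQCoh_of_iso ((kernelIsKernel f).conePointUniqueUpToIso hk) (QC.isQCoh_kernel hf.1 hf.2 f)

theorem qc_cokernels : (qP' X).IsClosedUnderCokernels where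
  cokernels_le := by
    rintro K ⟨f, k, hk, hf⟩
    exact QC.isQCoh_of_iso ((cokernelIsCokernel f).coconePointUniqueUpToIso hk) (QC.isQCoh_cokernel hf.1 hf.2 f)

theorem qc_finiteProducts : (qP' X).IsClosedUnderFiniteProducts := by
  haveI : (qP' X).IsClosedUnderIsomorphisms := ⟨fun e h => QC.isQCoh_of_iso e h⟩
  haveI := qc_containsZero X
  haveI : (qP' X).IsClosedUnderBinaryProducts := by
    refine ⟨?_⟩
    rintro Z ⟨p⟩
    let α := p.diag.obj ⟨WalkingPair.left⟩
    let β := p.diag.obj ⟨WalkingPair.right⟩
    have hl : IsLimit ((Cone.postcompose (diagramIsoPair p.diag).hom).obj p.cone) :=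
      (IsLimit.postcomposeHomEquiv (diagramIsoPair p.diag) p.cone).symm p.isLimit
    exact QC.isQCoh_of_iso ((BinaryBiproduct.isLimit α β).conePointUniqueUpToIso hl)
      (RPushQC.isQCoh_biprod (p.prop_diag_obj ⟨WalkingPair.left⟩) (p.prop_diag_obj ⟨WalkingPair.right⟩))
  exact ObjectProperty.IsClosedUnderFiniteProducts.mk'

variable [(qP' X).ContainsZero] [(qP' X).IsClosedUnderKernels] [(qP' X).IsClosedUnderCokernels]
  [(qP' X).IsClosedUnderFiniteProducts]

theorem qc_ι_limits : PreservesFiniteLimits (qP' X).ι := by
  haveI : ∀ {A B : (qP' X).FullSubcategory} (f : A ⟶ B), PreservesLimit (parallelPair f 0) (qP' X).ι :=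
    fun f => (qP' X).preservesKernels_ι f
  exact Functor.preservesFiniteLimits_of_preservesKernels _

theorem qc_ι_colimits : PreservesFiniteColimits (qP' X).ι := by
  haveI : ∀ {A B : (qP' X).FullSubcategory} (f : A ⟶ B), PreservesColimit (parallelPair f 0) (qP' X).ι :=
    fun f => (qP' X).preservesCokernels_ι f
  exact Functor.preservesFiniteColimits_of_preservesCokernels _

end Groth.Agent.SubRes
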