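import Groth.Agent.SubRes.Coh
import Groth.Agent.SubRes.QCInst
import Groth.Agent.DerQC.Hyp

/-!
The bounded derived category of coherent modules.
-/

set_option autoImplicit false
set_option backward.isDefEq.respectTransparency false
set_option backward.isDefEq.respectTransparency.types false
set_option linter.style.haveILetI false
set_option linter.unusedSectionVars false
set_option maxHeartbeats 1000000

universe u

open CategoryTheory Limits AlgebraicGeometry

attribute [local instance] HasDerivedCategory.standard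

noncomputable section

namespace Groth.Agent.SubRes

section
universe v v' v'' u' u''
variable {B : Type u} [Category.{v} B] [Abelian B] {A : Type u'} [Category.{v'} A] [Abelian A]
  {C : Type u''} [Category.{v''} C] [Abelian C]
  (F : B ⥤ A) [F.Additive] [PreservesFiniteLimits F] [PreservesFiniteColimits F]
  (G : A ⥤ C) [G.Additive] [PreservesFiniteLimits G] [PreservesFiniteColimits G]
  (H : B ⥤ C) [H.Additive] [PreservesFiniteLimits H] [PreservesFiniteColimits H] (e : F ⋙ G ≅ H)

/-- derived composition of exact functors -/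
def derComp :
    H.mapDerivedCategory ≅ F.mapDerivedCategory ⋙ G.mapDerivedCategory :=
  Localization.liftNatIso DerivedCategory.Q (HomologicalComplex.quasiIso B (ComplexShape.up ℤ))
    (DerivedCategory.Q ⋙ H.mapDerivedCategory)
    (DerivedCategory.Q ⋙ F.mapDerivedCategory ⋙ G.mapDerivedCategory) _ _
    (H.mapDerivedCategoryFactors ≪≫
      Functor.isoWhiskerRight (NatIso.mapHomologicalComplex e.symm (ComplexShape.up ℤ)) _ ≪≫
      Functor.isoWhiskerRight (Functor.mapHomologicalComplexCompIso (Iso.refl _) _).symm _ ≪≫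
      Functor.associator _ _ _ ≪≫
      Functor.isoWhiskerLeft _ G.mapDerivedCategoryFactors.symm ≪≫
      (Functor.associator _ _ _).symm ≪≫
      Functor.isoWhiskerRight F.mapDerivedCategoryFactors.symm _ ≪≫
      Functor.associator _ _ _)

lemma isLE_of_map [F.Faithful] (M : DerivedCategory B) (b : ℤ)
    (h : (F.mapDerivedCategory.obj M).IsLE b) : M.IsLE b :=
  (DerivedCategory.isLE_iff _ _).2 fun i hi => by
    have h1 := ((DerivedCategory.isLE_iff _ _).1 h i hi).of_iso ((DQCoh.homologyDerIso F i).app M).symm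
    rw [IsZero.iff_id_eq_zero] at h1 ⊢
    exact F.map_injective ((F.map_id _).trans (h1.trans (F.map_zero _ _).symm))

lemma isGE_of_map [F.Faithful] (M : DerivedCategory B) (a : ℤ)
    (h : (F.mapDerivedCategory.obj M).IsGE a) : M.IsGE a :=
  (DerivedCategory.isGE_iff _ _).2 fun i hi => by
    have h1 := ((DerivedCategory.isGE_iff _ _).1 h i hi).of_iso ((DQCoh.homologyDerIso F i).app M).symm
    rw [IsZero.iff_id_eq_zero] at h1 ⊢
    exact F.map_injective ((F.map_id _).trans (h1.trans (F.map_zero _ _).symm))

end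

variable (X : Scheme.{u}) [IsNoetherian X]
  [ObjectProperty.ContainsZero (cP X)] [ObjectProperty.IsClosedUnderKernels (cP X)]
  [ObjectProperty.IsClosedUnderCokernels (cP X)] [ObjectProperty.IsClosedUnderFiniteProducts (cP X)]
  [PreservesFiniteLimits (ObjectProperty.ι (cP X))] [PreservesFiniteColimits (ObjectProperty.ι (cP X))]

theorem coh_main :
    (∀ (M N : DerivedCategory (cP X).FullSubcategory) (b : ℤ), M.IsLE b →
      Function.Bijective (fun φ : M ⟶ N => (cP X).ι.mapDerivedCategory.map φ)) ∧
    ∀ (K : DCoh.D X) (a b : ℤ), K.IsGE a → K.IsLE b → DCoh.IsCohD K →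
      ∃ M : DerivedCategory (cP X).FullSubcategory, M.IsGE a ∧ M.IsLE b ∧
        Nonempty ((cP X).ι.mapDerivedCategory.obj M ≅ K) := by
  haveI : (qP X).ContainsZero := qc_containsZero X
  haveI : (qP X).IsClosedUnderKernels := qc_kernels X
  haveI : (qP X).IsClosedUnderCokernels := qc_cokernels X
  haveI : (qP X).IsClosedUnderFiniteProducts := qc_finiteProducts X
  haveI : PreservesFiniteLimits (qP X).ι := qc_ι_limits X
  haveI : PreservesFiniteColimits (qP X).ι := qc_ι_colimits X
  let e : cohIncl X ⋙ (qP X).ι ≅ (cP X).ι := Iso.refl _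
  haveI : PreservesFiniteLimits (cohIncl X ⋙ (qP X).ι) := preservesFiniteLimits_of_natIso e.symm
  haveI : PreservesFiniteColimits (cohIncl X ⋙ (qP X).ι) := preservesFiniteColimits_of_natIso e.symm
  haveI : PreservesFiniteLimits (cohIncl X) := preservesFiniteLimits_of_reflects_of_preserves (cohIncl X) (qP X).ι
  haveI : PreservesFiniteColimits (cohIncl X) :=
    preservesFiniteColimits_of_reflects_of_preserves (cohIncl X) (qP X).ι
  obtain ⟨hF, hFf, hess⟩ := DerQC.main (DerQC.hypAff_of_noetherian X)
  haveI : (qP X).ι.mapDerivedCategory.Full := hF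
  haveI : (qP X).ι.mapDerivedCategory.Faithful := hFf
  obtain ⟨h1, h2⟩ := main (cohIncl X) (liftClass_of_functor (cohIncl X) fun M N π hπ => lift_cohIncl M N π hπ)
  let c := derComp (cohIncl X) (qP X).ι (cP X).ι e
  refine ⟨fun M N b hM => ?_, fun K a b ha hb hK => ?_⟩
  · have : (fun φ : M ⟶ N => (cP X).ι.mapDerivedCategory.map φ) =
        (Iso.homCongr (c.app M).symm (c.app N).symm) ∘
          ((fun ψ => (qP X).ι.mapDerivedCategory.map ψ) ∘ fun φ : M ⟶ N => (cohIncl X).mapDerivedCategory.map φ) := by
      funext φ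
      simp only [Function.comp_apply, Iso.homCongr_apply, Iso.symm_inv, Iso.symm_hom, Iso.app_hom, Iso.app_inv]
      exact ((Iso.hom_inv_id_app_assoc c M ((cP X).ι.mapDerivedCategory.map φ)).symm.trans
        (congrArg (c.hom.app M ≫ ·) (c.inv.naturality φ).symm))
    rw [this]
    exact (Equiv.bijective _).comp ((Functor.FullyFaithful.ofFullyFaithful _).homEquiv.bijective.comp (h1 M N b hM))
  · obtain ⟨N, ⟨eN⟩⟩ := (hess K).1 fun i => (hK i).1
    have hN : N.IsLE b := isLE_of_map (qP X).ι N b ((DerivedCategory.isLE_iff _ _).2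
      fun i hi => ((DerivedCategory.isLE_iff K b).1 hb i hi).of_iso ((DerivedCategory.homologyFunctor X.Modules i).mapIso eN))
    obtain ⟨M, hM, ⟨eM⟩⟩ := h2 N b hN fun i => cohIncl_essImage X _ (by
      let eH : ((DerivedCategory.homologyFunctor (qP X).FullSubcategory i).obj N).obj ≅
          DCoh.HD K i := ((DQCoh.homologyDerIso (qP X).ι i).app N).symm ≪≫
            (DerivedCategory.homologyFunctor X.Modules i).mapIso eN
      exact ⟨QC.isQCoh_of_iso eH.symm (hK i).1, QC.isFT_of_epi eH.inv (hK i).2⟩)
    let eK : (cP X).ι.mapDerivedCategory.obj M ≅ K := c.app M ≪≫ (qP X).ι.mapDerivedCategory.mapIso eM ≪≫ eN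
    exact ⟨M, isGE_of_map (cP X).ι M a ((DerivedCategory.isGE_iff _ _).2
      fun i hi => ((DerivedCategory.isGE_iff K a).1 ha i hi).of_iso ((DerivedCategory.homologyFunctor X.Modules i).mapIso eK)), hM, ⟨eK⟩⟩

end Groth.Agent.SubRes
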