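import Groth.Agent.SubRes.Rel
import Groth.Agent.SubRes.Bounded
import Groth.Agent.K0Coh.Basic
import Groth.Agent.Devissage.Power
import Groth.Agent.QC.Extend
import Groth.Agent.DQPush.Basic
import Groth.Agent.LocImmFT.Cons

/-!
Bounded complexes with coherent cohomology extend from opens of Noetherian schemes.
-/

set_option autoImplicit false
set_option backward.isDefEq.respectTransparency false
set_option backward.isDefEq.respectTransparency.types false
set_option linter.style.haveILetI false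
set_option linter.unusedSectionVars false
set_option maxHeartbeats 1000000

universe u

open CategoryTheory Limits AlgebraicGeometry HomologicalComplex TopologicalSpace ZeroObject

attribute [local instance] HasDerivedCategory.standard
attribute [local instance] Abelian.hasFiniteBiproducts

noncomputable section

namespace Groth.Agent.SubRes

variable {X : Scheme.{u}} [AlgebraicGeometry.IsNoetherian X] (U : X.Opens)

lemma isCoh_biprod {M N : X.Modules} (hM : Coh.IsCoh M) (hN : Coh.IsCoh N) : Coh.IsCoh (M ⊞ N) := by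
  let T : Bool → X.Modules := fun b => cond b M N
  let p : ⨁ T ⟶ M ⊞ N := biproduct.desc fun b => match b with
    | true => biprod.inl
    | false => biprod.inr
  haveI : Epi p := by
    refine epi_of_epi_fac (f := biprod.desc (biproduct.ι T true) (biproduct.ι T false)) (h := 𝟙 (M ⊞ N)) ?_
    refine biprod.hom_ext' _ _ ?_ ?_
    · rw [biprod.inl_desc_assoc]
      exact (biproduct.ι_desc _ _).trans (Category.comp_id _).symm
    · rw [biprod.inr_desc_assoc]
      exact (biproduct.ι_desc _ _).trans (Category.comp_id _).symm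
  exact QC.isCoh_of_epi (Devissage.isCoh_biproduct T (fun b => by cases b <;> assumption))
    (RPushQC.isQCoh_biprod hM.1 hN.1) p

theorem quasiIso_map {A : Type*} [Category A] [Abelian A] {B : Type*} [Category B] [Abelian B] (R : A ⥤ B)
    [R.Additive] [PreservesFiniteLimits R] [PreservesFiniteColimits R] {K L : CochainComplex A ℤ} (i : K ⟶ L)
    (h : ∀ n, IsIso (R.map (homologyMap i n))) : QuasiIso ((R.mapHomologicalComplex (ComplexShape.up ℤ)).map i) :=
  ⟨fun n => by
    rw [quasiIsoAt_iff_isIso_homologyMap]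
    have e := ShortComplex.mapHomologyIso_hom_naturality
      ((HomologicalComplex.shortComplexFunctor A (ComplexShape.up ℤ) n).map i) R
    haveI := h n
    have : IsIso (((K.sc n).mapHomologyIso R).hom ≫ R.map (homologyMap i n)) := inferInstance
    rw [show ((K.sc n).mapHomologyIso R).hom ≫ R.map (homologyMap i n) =
      homologyMap ((R.mapHomologicalComplex (ComplexShape.up ℤ)).map i) n ≫ ((L.sc n).mapHomologyIso R).hom from e.symm] at this
    exact IsIso.of_isIso_comp_right _ ((L.sc n).mapHomologyIso R).hom⟩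

variable [ObjectProperty.ContainsZero (qP X)] [ObjectProperty.IsClosedUnderKernels (qP X)]
  [ObjectProperty.IsClosedUnderCokernels (qP X)] [ObjectProperty.IsClosedUnderFiniteProducts (qP X)]
  [PreservesFiniteLimits (qP X).ι] [PreservesFiniteColimits (qP X).ι]

/-- coherent objects of `QCoh X` -/
abbrev cohInQC (X : Scheme.{u}) : ObjectProperty (qP X).FullSubcategory := fun M => Coh.IsCoh M.obj

/-- restriction of quasi-coherent modules -/
abbrev resQ : (qP X).FullSubcategory ⥤ (U : Scheme.{u}).Modules :=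
  (qP X).ι ⋙ Scheme.Modules.restrictFunctor U.ι

theorem relCls : Rel.Cls (resQ U) (cohInQC X) (fun M : (U : Scheme.{u}).Modules => Coh.IsCoh M) where
  zero := ⟨0, isZero_zero _, K0Coh.isCoh_of_isZero ((qP X).ι.map_isZero (isZero_zero _))⟩
  biprod := fun {A B} hA hB => by
    haveI := preservesBinaryBiproducts_of_preservesBiproducts (qP X).ι
    exact K0Coh.isCoh_of_iso ((qP X).ι.mapBiprod A B).symm (isCoh_biprod hA hB)
  ker := fun f hA => by
    haveI : Mono ((qP X).ι.map (kernel.ι f)) := inferInstance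
    exact QC.isCoh_of_mono ((qP X).ι.map (kernel.ι f)) hA (kernel f).property
  map := fun {A} hA => ⟨QC.isQCoh_restrict U.ι hA.1, QC.isFT_restrict U.ι hA.2⟩
  lift := fun {V W} π hπ hW => by
    haveI := hπ
    haveI : AlgebraicGeometry.IsNoetherian (U : Scheme.{u}) := LocImmFT.isNoetherian_opens U
    let ψ : (Scheme.Modules.restrictFunctor U.ι).obj V.obj ⟶ (resQ U).obj W := (resQ U).map π
    haveI : Epi ψ := hπ
    have hVq : Coh.IsQCoh ((Scheme.Modules.restrictFunctor U.ι).obj V.obj) := QC.isQCoh_restrict U.ι V.property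
    obtain ⟨S, a, hS, ha⟩ := exists_coh_sub hVq hW.1 hW.2 ψ
    let I := Abelian.image a
    have hIq : Coh.IsQCoh I := QC.isQCoh_kernel hVq (QC.isQCoh_cokernel hS.1 hVq a) _
    have hI : CohB1.IsFT I := QC.isFT_of_epi (Abelian.factorThruImage a) hS.2
    haveI : V.obj.IsQuasicoherent := V.property
    haveI : I.IsQuasicoherent := hIq
    obtain ⟨G, i, e, -, hGq, hGft, hei⟩ := QC.exists_ft_extension (F := V.obj)
      (fun x => ⟨⊤, trivial, inferInstance⟩) U I (Abelian.image.ι a) hI
    let i' : (⟨G, hGq⟩ : (qP X).FullSubcategory) ⟶ V := ObjectProperty.homMk i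
    refine ⟨⟨G, hGq⟩, i', ⟨hGq, hGft⟩, ?_⟩
    rw [Functor.map_comp]
    change Epi ((Scheme.Modules.restrictFunctor U.ι).map i ≫ ψ)
    rw [← hei]
    haveI := ha
    haveI : Epi (Abelian.image.ι a ≫ ψ) := epi_of_epi_fac (f := Abelian.factorThruImage a) (h := a ≫ ψ)
      (by rw [← Category.assoc, Abelian.image.fac])
    exact inferInstanceAs (Epi (e.hom ≫ Abelian.image.ι a ≫ ψ))

theorem exists_ext_coh (F : DCoh.D (U : Scheme.{u})) (hF : DCoh.IsCohD F) (a b : ℤ) [F.IsGE a] [F.IsLE b] :
    ∃ (G : CochainComplex X.Modules ℤ) (a' b' : ℤ), DCoh.IsCohD (DCoh.toD X G) ∧ (DCoh.toD X G).IsGE a' ∧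
      (DCoh.toD X G).IsLE b' ∧ Nonempty (DerivedCategory.Q.obj ((DCoh.restrictCx U).obj G) ≅ F) := by
  obtain ⟨-, -, hess⟩ := DerQC.main (DerQC.hypAff_of_noetherian X)
  let R₀ := (DCoh.Rpush U.ι).obj F
  have hFq : DCoh.IsQCohD F := fun i => (hF i).1
  obtain ⟨Nb, hNb⟩ := DQPush.exists_amplitude U.ι
  let b' : ℤ := b + Nb
  have hR₀l : ∀ m, b' < m → IsZero (DCoh.HD R₀ m) := fun m hm => hNb F hFq b ‹_› m (by omega)
  have hR₀g : ∀ m, m < a → IsZero (DCoh.HD R₀ m) := fun m hm =>
    (DerivedCategory.isGE_iff _ a).1 (DQPush.isGE_rpush U.ι F a) m hm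
  obtain ⟨N, ⟨eN⟩⟩ := (hess R₀).1 (DQPush.isQCohD_rpush U.ι hFq)
  haveI : N.IsLE b' := isLE_of_map (qP X).ι N b' ((DerivedCategory.isLE_iff _ _).2 fun i hi =>
    (hR₀l i hi).of_iso ((DerivedCategory.homologyFunctor X.Modules i).mapIso eN))
  haveI : N.IsGE a := isGE_of_map (qP X).ι N a ((DerivedCategory.isGE_iff _ _).2 fun i hi =>
    (hR₀g i hi).of_iso ((DerivedCategory.homologyFunctor X.Modules i).mapIso eN))
  obtain ⟨K, _, _, ⟨eK⟩⟩ := N.exists_iso_Q_obj_of_isGE_of_isLE a b'
  let R := Scheme.Modules.restrictFunctor U.ι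
  let ι' : CochainComplex (qP X).FullSubcategory ℤ ⥤ CochainComplex X.Modules ℤ :=
    (qP X).ι.mapHomologicalComplex (ComplexShape.up ℤ)
  let K' : CochainComplex X.Modules ℤ := ι'.obj K
  let eι : DerivedCategory.Q.obj K' ≅ R₀ :=
    ((qP X).ι.mapDerivedCategoryFactors.app K).symm ≪≫ (qP X).ι.mapDerivedCategory.mapIso eK.symm ≪≫ eN
  let eRK : DerivedCategory.Q.obj ((DCoh.restrictCx U).obj K') ≅ F :=
    (DQCoh.rdIso U.ι K').symm ≪≫ (DQCoh.RD U.ι).mapIso eι ≪≫ asIso ((PerfGen.adjR U.ι).counit.app F)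
  have hH : ∀ n, Coh.IsCoh ((resQ U).obj (K.homology n)) := fun n =>
    K0Coh.isCoh_of_iso (((DerivedCategory.homologyFunctor _ n).mapIso eRK).symm ≪≫
      KFlat.hdIso ((DCoh.restrictCx U).obj K') n ≪≫ (K.sc n).mapHomologyIso (resQ U)) (hF n)
  obtain ⟨E, i, hEle, hEc, hEi⟩ := Rel.exists_approx (relCls U) K b' hH fun e h => K0Coh.isCoh_of_iso e h
  let E' : CochainComplex X.Modules ℤ := ι'.obj E
  let G : CochainComplex X.Modules ℤ := E'.truncGE a
  haveI : E'.IsStrictlyLE b' := inferInstanceAs ((((qP X).ι.mapHomologicalComplex _).obj E).IsStrictlySupported _)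
  haveI : G.IsStrictlyLE b' := inferInstance
  haveI : G.IsStrictlyGE a := inferInstance
  let iR : (DCoh.restrictCx U).obj E' ⟶ (DCoh.restrictCx U).obj K' := (DCoh.restrictCx U).map (ι'.map i)
  haveI : QuasiIso iR := quasiIso_map (resQ U) i hEi
  haveI : QuasiIso ((DCoh.restrictCx U).map (E'.πTruncGE a)) := ⟨fun n => by
    rcases le_or_gt a n with hn | hn
    · haveI := CochainComplex.quasiIsoAt_πTruncGE E' a n hn
      exact inferInstance
    · rw [quasiIsoAt_iff_isIso_homologyMap]
      have h1 : IsZero (((DCoh.restrictCx U).obj E').homology n) :=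
        (ShortComplex.isZero_homology_of_isZero_X₂ (((DCoh.restrictCx U).obj K').sc n)
          (R.map_isZero ((qP X).ι.map_isZero (K.isZero_of_isStrictlyGE a n hn)))).of_iso (isoOfQuasiIsoAt iR n)
      have h2 : IsZero (((DCoh.restrictCx U).obj G).homology n) :=
        ShortComplex.isZero_homology_of_isZero_X₂ _ (R.map_isZero (G.isZero_of_isStrictlyGE a n hn))
      exact h1.isIso h2 _⟩
  refine ⟨G, a, b', fun n => ?_, ?_, ?_, ⟨(asIso (DerivedCategory.Q.map ((DCoh.restrictCx U).map
    (E'.πTruncGE a)))).symm ≪≫ asIso (DerivedCategory.Q.map iR) ≪≫ eRK⟩⟩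
  · refine K0Coh.isCoh_of_iso (KFlat.hdIso G n).symm ?_
    rcases le_or_gt a n with hn | hn
    · haveI := CochainComplex.quasiIsoAt_πTruncGE E' a n hn
      exact K0Coh.isCoh_of_iso (isoOfQuasiIsoAt (E'.πTruncGE a) n) (K0Coh.isCoh_homology_of_X E' hEc n)
    · exact K0Coh.isCoh_of_isZero (ShortComplex.isZero_homology_of_isZero_X₂ _ (G.isZero_of_isStrictlyGE a n hn))
  · exact (DerivedCategory.isGE_iff _ _).2 fun n hn =>
      (ShortComplex.isZero_homology_of_isZero_X₂ _ (G.isZero_of_isStrictlyGE a n hn)).of_iso (KFlat.hdIso G n)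
  · exact (DerivedCategory.isLE_iff _ _).2 fun n hn =>
      (ShortComplex.isZero_homology_of_isZero_X₂ _ (G.isZero_of_isStrictlyLE b' n hn)).of_iso (KFlat.hdIso G n)

end Groth.Agent.SubRes
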