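import Groth.Agent.SubRes.Derived
import Mathlib.CategoryTheory.Abelian.SerreClass.Basic

/-!
Serre classes with lifting.
-/

set_option autoImplicit false
set_option backward.isDefEq.respectTransparency false
set_option backward.isDefEq.respectTransparency.types false
set_option linter.style.haveILetI false

universe v u

namespace Groth.Agent.SubRes

open CategoryTheory Limits ZeroObject

variable {A : Type u} [Category.{v} A] [Abelian A] (P : ObjectProperty A) [P.IsSerreClass]

lemma ι_essImage_iff (X : A) : P.ι.essImage X ↔ P X := by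
  refine ⟨fun ⟨Y, ⟨e⟩⟩ => P.prop_of_iso e Y.property, fun h => ⟨⟨X, h⟩, ⟨Iso.refl _⟩⟩⟩

theorem liftClass_serre
    (hlift : ∀ (X Y : A) (π : X ⟶ Y), Epi π → P Y → ∃ (X' : A) (i : X' ⟶ X), Mono i ∧ P X' ∧ Epi (i ≫ π)) :
    LiftClass P.ι.essImage where
  iso e h := Functor.essImage.ofIso e h
  zero := ⟨0, isZero_zero A, (ι_essImage_iff P _).2 (P.prop_of_isZero (isZero_zero A))⟩
  biprod {X Y} hX hY := by
    rw [ι_essImage_iff] at hX hY ⊢
    let S : ShortComplex A := ShortComplex.mk (biprod.inl : X ⟶ X ⊞ Y) biprod.snd (by simp)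
    exact P.prop_X₂_of_shortExact (ShortComplex.Splitting.ofHasBinaryBiproduct X Y).shortExact hX hY
  ker {X Y} f hX _ := by
    rw [ι_essImage_iff] at hX ⊢
    exact P.prop_of_mono (kernel.ι f) hX
  lift {X Y} π hπ hY := by
    obtain ⟨X', i, -, hX', he⟩ := hlift X Y π hπ ((ι_essImage_iff P Y).1 hY)
    exact ⟨X', i, (ι_essImage_iff P X').2 hX', he⟩

end Groth.Agent.SubRes
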