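import Groth.Agent.SubRes.Functor
import Groth.Agent.SymAlg.FTSub
import Groth.Agent.ResDesc.ResProp
import Groth.Prelude.Def_Coh

/-!
Coherent modules inside quasi-coherent modules.
-/

set_option autoImplicit false
set_option backward.isDefEq.respectTransparency false
set_option backward.isDefEq.respectTransparency.types false
set_option linter.style.haveILetI false

universe u

open CategoryTheory Limits AlgebraicGeometry

noncomputable section

namespace Groth.Agent.SubRes

variable {X : Scheme.{u}}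

/-- a finite type quotient of a quasi-coherent module is the image of a finite type submodule -/
theorem exists_coh_sub [IsNoetherian X] {P M : X.Modules} (hP : Coh.IsQCoh P) (hM : Coh.IsQCoh M)
    (hMft : CohB1.IsFT M) (ψ : P ⟶ M) [Epi ψ] :
    ∃ (S : X.Modules) (a : S ⟶ P), Coh.IsCoh S ∧ Epi (a ≫ ψ) := by
  classical
  haveI : P.IsQuasicoherent := hP
  haveI : M.IsQuasicoherent := hM
  have hcov : ∀ x : X, ∃ V : X.affineOpens, x ∈ V.1 := fun x => by
    obtain ⟨V, hV, hx, -⟩ := exists_isAffineOpen_mem_and_subset (X := X) (x := x) (U := ⊤) trivial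
    exact ⟨⟨V, hV⟩, hx⟩
  choose V hxV using hcov
  obtain ⟨t, ht⟩ := isCompact_univ.elim_finite_subcover (fun x : X => ((V x).1 : Set X)) (fun x => (V x).1.2)
    fun x _ => Set.mem_iUnion.2 ⟨x, hxV x⟩
  have hgen : ∀ x : t, ∃ T : Finset Γ(M, (V x.1).1), Submodule.span Γ(X, (V x.1).1) (T : Set Γ(M, (V x.1).1)) = ⊤ :=
    fun x => (QC.finite_sections (V x.1).2 (M := M) hMft).fg_top
  choose T hT using hgen
  have hlift : ∀ p : Σ x : t, {y // y ∈ T x}, ∃ z : Γ(P, (V p.1.1).1), ψ.app _ z = p.2.1 := fun p =>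
    QC.app_surjective_of_epi (V p.1.1).2 hP hM ψ p.2.1
  choose z hz using hlift
  obtain ⟨S, hS, hmem⟩ := SymAlg.exists_ft_containing (F := P) (κ := Σ x : t, {y // y ∈ T x}) (fun p => V p.1.1) z
  obtain ⟨hSq, hSft⟩ := QC.Sub.isCoh_toModules hS
  refine ⟨S.toModules, S.ι, ⟨hSq, hSft⟩, Preadditive.epi_of_cancel_zero _ fun g hg => ?_⟩
  refine ResDesc.cancel_zero_of_span hM (fun x : t => (V x.1).1) (fun x => (V x.1).2) (fun x => ?_)
    (fun x => (T x : Set _)) hT g fun x y hy => ?_
  · obtain ⟨w, hw, hxw⟩ := Set.mem_iUnion₂.1 (ht (Set.mem_univ x))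
    exact ⟨⟨w, hw⟩, hxw⟩
  · obtain ⟨s, hs⟩ := (S.range_ι_app _ _).mpr (hmem ⟨x, ⟨y, hy⟩⟩)
    have h1 := congr(($hg).app (V x.1).1 s)
    refine Eq.trans ?_ h1
    change g.app _ y = g.app _ (ψ.app _ (S.ι.app _ s))
    rw [hs, hz]

/-- quasi-coherence -/
abbrev qP (X : Scheme.{u}) : ObjectProperty X.Modules := fun M => Coh.IsQCoh M
/-- coherence -/
abbrev cP (X : Scheme.{u}) : ObjectProperty X.Modules := fun M => Coh.IsCoh M

/-- coherent modules among the quasi-coherent ones -/
abbrev cohIncl (X : Scheme.{u}) : (cP X).FullSubcategory ⥤ (qP X).FullSubcategory :=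
  ObjectProperty.lift (qP X) (cP X).ι (fun M => M.property.1)

lemma cohIncl_essImage (X : Scheme.{u}) (M : (qP X).FullSubcategory) (h : Coh.IsCoh M.obj) :
    (cohIncl X).essImage M :=
  ⟨⟨M.obj, h⟩, ⟨(qP X).fullyFaithfulι.preimageIso (Iso.refl M.obj)⟩⟩

variable [IsNoetherian X]
  [ObjectProperty.ContainsZero (qP X)] [ObjectProperty.IsClosedUnderKernels (qP X)]
  [ObjectProperty.IsClosedUnderCokernels (qP X)] [ObjectProperty.IsClosedUnderFiniteProducts (qP X)]

omit [AlgebraicGeometry.IsNoetherian X] [ObjectProperty.IsClosedUnderFiniteProducts (qP X)]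
  [ObjectProperty.IsClosedUnderKernels (qP X)] in
lemma epi_hom_of_epi {M N : (qP X).FullSubcategory} (π : M ⟶ N) [Epi π] : Epi π.hom := by
  refine Preadditive.epi_of_cokernel_zero ?_
  let C : (qP X).FullSubcategory := ⟨cokernel π.hom, (qP X).prop_cokernel π.hom M.property N.property⟩
  let g : N ⟶ C := ObjectProperty.homMk (cokernel.π π.hom)
  have : g = 0 := by
    rw [← cancel_epi π, comp_zero]
    exact ObjectProperty.hom_ext _ (cokernel.condition π.hom)
  exact congrArg (qP X).ι.map this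

theorem lift_cohIncl (M : (qP X).FullSubcategory) (N : (cP X).FullSubcategory) (π : M ⟶ (cohIncl X).obj N)
    (hπ : Epi π) : ∃ (M' : (cP X).FullSubcategory) (i : (cohIncl X).obj M' ⟶ M), Epi (i ≫ π) := by
  haveI := hπ
  haveI := epi_hom_of_epi π
  obtain ⟨S, a, hS, ha⟩ := exists_coh_sub M.property N.property.1 N.property.2 π.hom
  let i : (cohIncl X).obj ⟨S, hS⟩ ⟶ M := ObjectProperty.homMk a
  haveI : Epi ((qP X).ι.map (i ≫ π)) := ha
  exact ⟨⟨S, hS⟩, i, (qP X).ι.epi_of_epi_map this⟩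

end Groth.Agent.SubRes
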