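import Groth.Agent.CohDerRes.Left

/-!
A complex whose homology lies in a class receives a quasi-isomorphism from a complex with terms in the class.
-/

set_option autoImplicit false
set_option linter.unusedSectionVars false
set_option linter.style.haveILetI false
set_option backward.isDefEq.respectTransparency false
set_option backward.isDefEq.respectTransparency.types false

universe v u

namespace Groth.Agent.SubRes

open CategoryTheory Limits HomologicalComplex

variable {A : Type u} [Category.{v} A] [Abelian A]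

/-- a class in which objects of the class can be covered inside any cover -/
structure LiftClass (P : ObjectProperty A) : Prop where
  iso : ∀ {X Y : A}, (X ≅ Y) → P X → P Y
  zero : ∃ Z : A, IsZero Z ∧ P Z
  biprod : ∀ {X Y : A}, P X → P Y → P (X ⊞ Y)
  ker : ∀ {X Y : A} (f : X ⟶ Y), P X → P Y → P (kernel f)
  lift : ∀ {X Y : A} (π : X ⟶ Y), Epi π → P Y → ∃ (X' : A) (i : X' ⟶ X), P X' ∧ Epi (i ≫ π)

variable {P : ObjectProperty A} (hP : LiftClass P) (L : ChainComplex A ℕ)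

lemma next_eq (k : ℕ) : (ComplexShape.down ℕ).next k = k - 1 := by cases k <;> simp

/-- a level of the approximation -/
structure Lvl (P : ObjectProperty A) (L : ChainComplex A ℕ) (k : ℕ) where
  /-- the term -/
  Q : A
  hQ : P Q
  /-- the comparison -/
  α : Q ⟶ L.X k
  /-- the cycles -/
  Z : A
  hZ : P Z
  /-- their inclusion -/
  z : Z ⟶ Q
  mono : Mono z
  cyc : (z ≫ α) ≫ L.d k (k - 1) = 0
  surj : Epi (L.liftCycles (z ≫ α) (k - 1) (next_eq k) cyc ≫ L.homologyπ k)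

variable {L}

/-- the map on cycles -/
noncomputable def Lvl.zc {k : ℕ} (l : Lvl P L k) : l.Z ⟶ L.cycles k :=
  L.liftCycles (l.z ≫ l.α) (k - 1) (next_eq k) l.cyc

/-- the cycles mapping to boundaries -/
noncomputable abbrev Lvl.W {k : ℕ} (l : Lvl P L k) : A := kernel (l.zc ≫ L.homologyπ k)

/-- their preimage upstairs -/
noncomputable abbrev Lvl.V {k : ℕ} (l : Lvl P L k) : A :=
  pullback (L.toCycles (k + 1) k) (kernel.ι (l.zc ≫ L.homologyπ k) ≫ l.zc)

lemma Lvl.epi_snd {k : ℕ} (l : Lvl P L k) :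
    Epi (pullback.snd (L.toCycles (k + 1) k) (kernel.ι (l.zc ≫ L.homologyπ k) ≫ l.zc)) := by
  let g : l.W ⟶ L.cycles k := kernel.ι (l.zc ≫ L.homologyπ k) ≫ l.zc
  have hg : g ≫ L.homologyπ k = 0 := (Category.assoc _ _ _).trans (kernel.condition _)
  have hgd : (g ≫ L.iCycles k) ≫ L.d k (k - 1) = 0 := by rw [Category.assoc, iCycles_d, comp_zero]
  have he : L.liftCycles (g ≫ L.iCycles k) (k - 1) (next_eq k) hgd = g := by
    rw [← cancel_mono (L.iCycles k), liftCycles_i]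
  obtain ⟨T, π, hπ, x, hx⟩ := (L.liftCycles_comp_homologyπ_eq_zero_iff_up_to_refinements (k + 1) k (k - 1)
    (by simp) (next_eq k) _ hgd).1 (by rw [he]; exact hg)
  haveI := hπ
  refine epi_of_epi_fac (pullback.lift_snd x π ?_)
  rw [← cancel_mono (L.iCycles k), Category.assoc, toCycles_i, Category.assoc]
  exact hx.symm

variable (hH : ∀ k, P (L.homology k))

include hP hH in
lemma exists_top (k : ℕ) : ∃ (Y : A) (b : Y ⟶ L.cycles k), P Y ∧ Epi (b ≫ L.homologyπ k) :=
  hP.lift (L.homologyπ k) inferInstance (hH k)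

include hP hH in
lemma Lvl.exists_next {k : ℕ} (l : Lvl P L k) : ∃ (l' : Lvl P L (k + 1)) (d : l'.Q ⟶ l.Q),
    l'.α ≫ L.d (k + 1) k = d ≫ l.α ∧ l'.z ≫ d = 0 ∧
    (∃ w : l'.Q ⟶ l.Z, w ≫ l.z = d) ∧
    (∀ {T : A} (x : T ⟶ l'.Q), x ≫ d = 0 → ∃ w : T ⟶ l'.Z, w ≫ l'.z = x) ∧
    ∀ {T : A} (x : T ⟶ l.W), ∃ (T' : A) (π : T' ⟶ T) (_ : Epi π) (y : T' ⟶ l'.Q),
      y ≫ d = π ≫ x ≫ kernel.ι _ ≫ l.z := by
  obtain ⟨X', a, hX', ha⟩ := hP.lift
    (pullback.snd (L.toCycles (k + 1) k) (kernel.ι (l.zc ≫ L.homologyπ k) ≫ l.zc)) l.epi_snd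
    (hP.ker _ l.hZ (hH k))
  obtain ⟨Y', b, hY', hb⟩ := exists_top hP hH (k + 1)
  let d : X' ⊞ Y' ⟶ l.Q := biprod.desc (a ≫ pullback.snd _ _ ≫ kernel.ι _ ≫ l.z) 0
  let α : X' ⊞ Y' ⟶ L.X (k + 1) := biprod.desc (a ≫ pullback.fst _ _) (b ≫ L.iCycles (k + 1))
  have hc : α ≫ L.d (k + 1) k = d ≫ l.α := by
    refine biprod.hom_ext' _ _ ?_ ?_
    · simp only [α, d, biprod.inl_desc_assoc, Category.assoc]
      rw [← L.toCycles_i (k + 1) k, pullback.condition_assoc]
      simp [Lvl.zc]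
    · simp [α, d]
  have hcyc : (kernel.ι d ≫ α) ≫ L.d (k + 1) k = 0 := by rw [Category.assoc, hc, kernel.condition_assoc, zero_comp]
  have hb' : biprod.inr ≫ d = 0 := biprod.inr_desc _ _
  refine ⟨⟨X' ⊞ Y', hP.biprod hX' hY', α, kernel d, hP.ker d (hP.biprod hX' hY') l.hQ, kernel.ι d,
    inferInstance, hcyc, ?_⟩, d, hc, kernel.condition d, ⟨biprod.desc (a ≫ pullback.snd _ _ ≫ kernel.ι _) 0, ?_⟩,
    fun x hx => ⟨kernel.lift _ x hx, kernel.lift_ι _ _ _⟩, fun x => ?_⟩
  · haveI := hb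
    refine epi_of_epi_fac (f := kernel.lift d biprod.inr hb') (h := b ≫ L.homologyπ (k + 1)) ?_
    rw [← Category.assoc]
    congr 1
    rw [← cancel_mono (L.iCycles (k + 1)), Category.assoc, liftCycles_i, kernel.lift_ι_assoc]
    exact biprod.inr_desc _ _
  · refine biprod.hom_ext' _ _ ?_ ?_ <;> simp [d]
  · haveI := ha
    obtain ⟨T', π, hπ, y, hy⟩ := surjective_up_to_refinements_of_epi (a ≫ pullback.snd _ _) x
    refine ⟨T', π, hπ, y ≫ biprod.inl, ?_⟩
    simp only [d, Category.assoc, biprod.inl_desc]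
    rw [reassoc_of% hy]

include hP hH in
lemma exists_bot : ∃ l : Lvl P L 0, ∀ {T : A} (x : T ⟶ l.Q), ∃ w : T ⟶ l.Z, w ≫ l.z = x := by
  obtain ⟨Y, b, hY, hb⟩ := exists_top hP hH 0
  refine ⟨⟨Y, hY, b ≫ L.iCycles 0, Y, hY, 𝟙 Y, inferInstance, by simp, ?_⟩, fun x => ⟨x, Category.comp_id x⟩⟩
  convert hb using 2
  rw [← cancel_mono (L.iCycles 0), liftCycles_i, Category.id_comp]

/-- the levels -/
noncomputable def lvl : ∀ k, Lvl P L k
  | 0 => (exists_bot hP hH).choose
  | k + 1 => ((lvl k).exists_next hP hH).choose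

/-- the differential -/
noncomputable def dd (k : ℕ) : (lvl hP hH (k + 1)).Q ⟶ (lvl hP hH k).Q :=
  ((lvl hP hH k).exists_next hP hH).choose_spec.choose

lemma dd_spec (k : ℕ) :
    (lvl hP hH (k + 1)).α ≫ L.d (k + 1) k = dd hP hH k ≫ (lvl hP hH k).α ∧
    (lvl hP hH (k + 1)).z ≫ dd hP hH k = 0 ∧
    (∃ w : (lvl hP hH (k + 1)).Q ⟶ (lvl hP hH k).Z, w ≫ (lvl hP hH k).z = dd hP hH k) ∧
    (∀ {T : A} (x : T ⟶ (lvl hP hH (k + 1)).Q), x ≫ dd hP hH k = 0 →
      ∃ w : T ⟶ (lvl hP hH (k + 1)).Z, w ≫ (lvl hP hH (k + 1)).z = x) ∧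
    ∀ {T : A} (x : T ⟶ (lvl hP hH k).W), ∃ (T' : A) (π : T' ⟶ T) (_ : Epi π) (y : T' ⟶ (lvl hP hH (k + 1)).Q),
      y ≫ dd hP hH k = π ≫ x ≫ kernel.ι _ ≫ (lvl hP hH k).z :=
  ((lvl hP hH k).exists_next hP hH).choose_spec.choose_spec

lemma exists_factor_bot {T : A} (x : T ⟶ (lvl hP hH 0).Q) :
    ∃ w : T ⟶ (lvl hP hH 0).Z, w ≫ (lvl hP hH 0).z = x := (exists_bot hP hH).choose_spec x

/-- the approximating complex -/
noncomputable def res : ChainComplex A ℕ :=
  ChainComplex.of (fun k => (lvl hP hH k).Q) (fun k => dd hP hH k) fun k => by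
    obtain ⟨w, hw⟩ := (dd_spec hP hH (k + 1)).2.2.1
    rw [← hw, Category.assoc, (dd_spec hP hH k).2.1, comp_zero]

lemma res_d (k : ℕ) : (res hP hH).d (k + 1) k = dd hP hH k :=
  ChainComplex.of_d (fun k => (lvl hP hH k).Q) (fun k => dd hP hH k) k

/-- the comparison -/
noncomputable def aug : res hP hH ⟶ L where
  f k := (lvl hP hH k).α
  comm' i j (h : j + 1 = i) := by
    subst h
    rw [res_d]
    exact (dd_spec hP hH j).1

lemma z_d (k : ℕ) : (lvl hP hH k).z ≫ (res hP hH).d k (k - 1) = 0 := by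
  cases k with
  | zero => rw [(res hP hH).shape 0 (0 - 1) (by simp), comp_zero]
  | succ k =>
    change (lvl hP hH (k + 1)).z ≫ (res hP hH).d (k + 1) k = 0
    rw [res_d]
    exact (dd_spec hP hH k).2.1

lemma exists_factor_z (k : ℕ) {T : A} (x : T ⟶ (res hP hH).X k)
    (hx : x ≫ (res hP hH).d k (k - 1) = 0) : ∃ w : T ⟶ (lvl hP hH k).Z, w ≫ (lvl hP hH k).z = x := by
  cases k with
  | zero => exact exists_factor_bot hP hH x
  | succ k =>
    have hx' : x ≫ (res hP hH).d (k + 1) k = 0 := hx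
    rw [res_d] at hx'
    exact (dd_spec hP hH k).2.2.2.1 x hx'

lemma quasiIso_aug : QuasiIso (aug hP hH) where
  quasiIsoAt k := by
    rw [quasiIsoAt_iff_isIso_homologyMap]
    have hp : (ComplexShape.down ℕ).prev k = k + 1 := by simp
    let l := lvl hP hH k
    haveI := l.mono
    have : Epi (homologyMap (aug hP hH) k) := by
      rw [epi_homologyMap_iff_up_to_refinements _ (k + 1) k (k - 1) hp (next_eq k)]
      intro T y hy
      haveI := l.surj
      obtain ⟨T', π, hπ, w, hw⟩ := surjective_up_to_refinements_of_epi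
        (L.liftCycles (l.z ≫ l.α) (k - 1) (next_eq k) l.cyc ≫ L.homologyπ k)
        (L.liftCycles y (k - 1) (next_eq k) hy ≫ L.homologyπ k)
      have hd : (π ≫ y - w ≫ l.z ≫ l.α) ≫ L.d k (k - 1) = 0 := by
        rw [Preadditive.sub_comp, Category.assoc, hy, comp_zero, Category.assoc, l.cyc, comp_zero, sub_zero]
      have he : L.liftCycles _ (k - 1) (next_eq k) hd =
          π ≫ L.liftCycles y (k - 1) (next_eq k) hy - w ≫ L.liftCycles (l.z ≫ l.α) (k - 1) (next_eq k) l.cyc := by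
        rw [← cancel_mono (L.iCycles k), Preadditive.sub_comp]
        simp
      obtain ⟨T'', π', hπ', x, hx⟩ :=
        (L.liftCycles_comp_homologyπ_eq_zero_iff_up_to_refinements (k + 1) k (k - 1) hp (next_eq k) _ hd).1 (by
          rw [he, Preadditive.sub_comp, Category.assoc, Category.assoc, hw, sub_self])
      refine ⟨T'', π' ≫ π, inferInstance, π' ≫ w ≫ l.z, ?_, x, ?_⟩
      · erw [Category.assoc, Category.assoc, z_d, comp_zero, comp_zero]
      · rw [Preadditive.comp_sub, sub_eq_iff_eq_add'] at hx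
        rw [Category.assoc, hx]
        exact congrArg (· + _) ((congrArg (π' ≫ ·) (Category.assoc _ _ _).symm).trans (Category.assoc _ _ _).symm)
    have : Mono (homologyMap (aug hP hH) k) := by
      rw [mono_homologyMap_iff_up_to_refinements _ (k + 1) k (k - 1) hp (next_eq k)]
      intro T x hx y hy
      obtain ⟨w, rfl⟩ := exists_factor_z hP hH k x hx
      have hw : w ≫ l.zc ≫ L.homologyπ k = 0 := by
        have hd : (w ≫ l.z ≫ l.α) ≫ L.d k (k - 1) = 0 := by rw [Category.assoc, l.cyc, comp_zero]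
        have he : L.liftCycles _ (k - 1) (next_eq k) hd = w ≫ l.zc := by
          rw [← cancel_mono (L.iCycles k)]
          simp [Lvl.zc]
        rw [← Category.assoc, ← he]
        refine (L.liftCycles_comp_homologyπ_eq_zero_iff_up_to_refinements (k + 1) k (k - 1) hp (next_eq k) _ hd).2
          ⟨T, 𝟙 T, inferInstance, y, ?_⟩
        rw [Category.id_comp, ← hy]
        exact (Category.assoc _ _ _).symm
      obtain ⟨T', π, hπ, q, hq⟩ := (dd_spec hP hH k).2.2.2.2 (kernel.lift _ w hw)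
      refine ⟨T', π, hπ, q, ?_⟩
      erw [res_d]
      exact (hq.trans (congrArg (π ≫ ·) (kernel.lift_ι_assoc _ _ _ _))).symm
    exact isIso_of_mono_of_epi _

include hP hH in
/-- approximation of a chain complex -/
theorem exists_chain_approx : ∃ (R : ChainComplex A ℕ) (α : R ⟶ L), (∀ k, P (R.X k)) ∧ QuasiIso α :=
  ⟨res hP hH, aug hP hH, fun k => (lvl hP hH k).hQ, quasiIso_aug hP hH⟩

end Groth.Agent.SubRes
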