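import Groth.Agent.SubRes.Chain
import Groth.Agent.CohDerRoofs.Basic
import Mathlib.Algebra.Homology.Embedding.RestrictionHomology
import Mathlib.Algebra.Homology.DerivedCategory.ExactFunctor
import Mathlib.Algebra.Homology.DerivedCategory.TStructure
import Groth.Agent.DQCoh.DerCalc

/-!
The bounded above derived category of a class of objects with the lifting property.
-/

set_option autoImplicit false
set_option linter.unusedSectionVars false
set_option linter.style.haveILetI false
set_option backward.isDefEq.respectTransparency false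
set_option backward.isDefEq.respectTransparency.types false

universe w w' v u v' u'

namespace Groth.Agent.SubRes

open CategoryTheory Limits HomologicalComplex

variable {A : Type u} [Category.{v} A] [Abelian A] {B : Type u'} [Category.{v'} B] [Abelian B]

/-- approximation of a bounded above complex -/
theorem exists_approx {P : ObjectProperty A} (hP : LiftClass P) (K : CochainComplex A ℤ) (b : ℤ) [K.IsStrictlyLE b]
    (hH : ∀ n, P (K.homology n)) :
    ∃ (E : CochainComplex A ℤ) (i : E ⟶ K), E.IsStrictlyLE b ∧ (∀ n, P (E.X n)) ∧ QuasiIso i := by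
  let e := ComplexShape.embeddingUpIntLE b
  obtain ⟨j⟩ := CohDerRes.nonempty_stupidTrunc_iso e K
  have hH' : ∀ k, P ((K.restriction e).homology k) := fun k =>
    hP.iso ((isoOfQuasiIsoAt j.hom (e.f k)).symm ≪≫ (K.restriction e).extendHomologyIso e rfl) (hH _)
  obtain ⟨R, α, hR, hq⟩ := exists_chain_approx hP hH'
  obtain ⟨E, i, hE⟩ := CohDerRes.exists_replace_extend hP.zero e R hR
  exact ⟨E, i.hom ≫ extendMap α e ≫ j.hom, isStrictlySupported_of_iso i.symm e, hE, inferInstance⟩

variable (F : B ⥤ A) [F.Additive] [F.Full] [F.Faithful] [PreservesFiniteLimits F] [PreservesFiniteColimits F]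

/-- the termwise image -/
abbrev Fc : CochainComplex B ℤ ⥤ CochainComplex A ℤ := F.mapHomologicalComplex (ComplexShape.up ℤ)

lemma exists_iso_map (E : CochainComplex A ℤ) (hE : ∀ n, F.essImage (E.X n)) :
    ∃ E₀ : CochainComplex B ℤ, Nonempty ((Fc F).obj E₀ ≅ E) := by
  choose X hX using hE
  obtain ⟨K, i, hK⟩ := CohDerRes.exists_iso_replace E (fun n => F.obj (X n)) fun n => (hX n).some
  obtain ⟨X', d', sh, dd⟩ := K
  subst hK
  exact ⟨{ X := X
           d := fun i j => F.preimage (d' i j)
           shape := fun i j h => F.map_injective (by rw [F.map_preimage, sh i j h, F.map_zero])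
           d_comp_d' := fun i j k h h' => F.map_injective (by
             rw [F.map_comp, F.map_preimage, F.map_preimage, dd i j k h h', F.map_zero]) },
    ⟨(HomologicalComplex.Hom.isoOfComponents (fun n => Iso.refl (F.obj (X n))) (fun i j _ => by
        simp only [Functor.mapHomologicalComplex_obj_d, F.map_preimage]
        exact (Category.id_comp _).trans (Category.comp_id _).symm) :
      _ ≅ ({ X := fun n => F.obj (X n), d := d', shape := sh, d_comp_d' := dd } : CochainComplex A ℤ)) ≪≫ i⟩⟩

lemma isStrictlyLE_of_map (E₀ : CochainComplex B ℤ) (b : ℤ) [((Fc F).obj E₀).IsStrictlyLE b] :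
    E₀.IsStrictlyLE b :=
  (CochainComplex.isStrictlyLE_iff _ b).2 fun i hi => by
    have h := ((Fc F).obj E₀).isZero_of_isStrictlyLE b i hi
    rw [IsZero.iff_id_eq_zero] at h ⊢
    exact F.map_injective ((F.map_id _).trans (h.trans (F.map_zero _ _).symm))

/-- homology of a termwise image -/
lemma mem_homology_map (K : CochainComplex B ℤ) (n : ℤ) : F.essImage (((Fc F).obj K).homology n) :=
  ⟨K.homology n, ⟨((K.sc n).mapHomologyIso F).symm⟩⟩

variable (hP : LiftClass F.essImage)

include hP in
lemma exists_approx_map (K : CochainComplex A ℤ) (b : ℤ) [K.IsStrictlyLE b]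
    (hH : ∀ n, F.essImage (K.homology n)) :
    ∃ (E₀ : CochainComplex B ℤ) (i : (Fc F).obj E₀ ⟶ K), E₀.IsStrictlyLE b ∧ QuasiIso i := by
  obtain ⟨E, i, hE, hX, hi⟩ := exists_approx hP K b hH
  obtain ⟨E₀, ⟨e⟩⟩ := exists_iso_map F E hX
  haveI : ((Fc F).obj E₀).IsStrictlyLE b := isStrictlySupported_of_iso e.symm _
  exact ⟨E₀, e.hom ≫ i, isStrictlyLE_of_map F E₀ b, inferInstance⟩

variable [HasDerivedCategory.{w} A] [HasDerivedCategory.{w'} B]

open DerivedCategory (Q)

lemma map_Q_map {K L : CochainComplex B ℤ} (f : K ⟶ L) :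
    F.mapDerivedCategory.map (Q.map f) =
      F.mapDerivedCategoryFactors.hom.app K ≫ Q.map ((Fc F).map f) ≫ F.mapDerivedCategoryFactors.inv.app L := by
  have h := F.mapDerivedCategoryFactors.hom.naturality f
  simp only [Functor.comp_map] at h
  rw [← Category.assoc, ← h, Category.assoc, Iso.hom_inv_id_app]
  exact (Category.comp_id _).symm

lemma quasiIso_of_map {K L : CochainComplex B ℤ} (f : K ⟶ L) [QuasiIso ((Fc F).map f)] : QuasiIso f := by
  haveI : F.ReflectsIsomorphisms := inferInstance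
  exact (quasiIso_map_iff_of_preservesHomology f F).1 inferInstance

lemma prop_homology_of_qis {K : CochainComplex B ℤ} {L : CochainComplex A ℤ} (s : L ⟶ (Fc F).obj K) [QuasiIso s]
    (n : ℤ) : F.essImage (L.homology n) :=
  Functor.essImage.ofIso (isoOfQuasiIsoAt s n).symm (mem_homology_map F K n)

include hP in
lemma exists_preimage (P N : CochainComplex B ℤ) (b : ℤ) [P.IsStrictlyLE b]
    (φ : Q.obj ((Fc F).obj P) ⟶ Q.obj ((Fc F).obj N)) :
    ∃ ψ : Q.obj P ⟶ Q.obj N, F.mapDerivedCategory.map ψ =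
      F.mapDerivedCategoryFactors.hom.app P ≫ φ ≫ F.mapDerivedCategoryFactors.inv.app N := by
  obtain ⟨X', _, s, hs, g, rfl⟩ := DerivedCategory.right_fac_of_isStrictlyLE φ b
  haveI := CohDerRoofs.quasiIso_of_isIso_Q_map s
  obtain ⟨E₀, t, _, ht⟩ := exists_approx_map F hP X' b (prop_homology_of_qis F s)
  obtain ⟨s', hs'⟩ := (Fc F).map_surjective (t ≫ s)
  obtain ⟨g', hg'⟩ := (Fc F).map_surjective (t ≫ g)
  haveI : QuasiIso ((Fc F).map s') := by rw [hs']; infer_instance
  haveI := quasiIso_of_map F s'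
  refine ⟨inv (Q.map s') ≫ Q.map g', ?_⟩
  rw [← cancel_epi (F.mapDerivedCategory.map (Q.map s')), ← Functor.map_comp, IsIso.hom_inv_id_assoc,
    map_Q_map, map_Q_map, hs', hg', Functor.map_comp, Functor.map_comp]
  simp only [Category.assoc, IsIso.hom_inv_id_assoc]
  exact congrArg (F.mapDerivedCategoryFactors.hom.app E₀ ≫ ·) (congrArg (Q.map t ≫ ·)
    ((IsIso.hom_inv_id_assoc (Q.map s) (Q.map g ≫ F.mapDerivedCategoryFactors.inv.app N)).symm.trans
      (congrArg (Q.map s ≫ ·) (Iso.inv_hom_id_app_assoc F.mapDerivedCategoryFactors P _).symm)))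

include hP in
lemma eq_zero_of_map (P N : CochainComplex B ℤ) (b : ℤ) [P.IsStrictlyLE b] (φ : Q.obj P ⟶ Q.obj N)
    (hφ : F.mapDerivedCategory.map φ = 0) : φ = 0 := by
  obtain ⟨X', _, s, hs, g, rfl⟩ := DerivedCategory.right_fac_of_isStrictlyLE φ b
  rw [Functor.map_comp] at hφ
  have h0 : F.mapDerivedCategory.map (Q.map g) = 0 :=
    (cancel_epi _).1 (hφ.trans comp_zero.symm)
  have h1 : Q.map ((Fc F).map g) = 0 := by
    rw [map_Q_map] at h0
    exact (cancel_mono (F.mapDerivedCategoryFactors.inv.app N)).1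
      ((cancel_epi (F.mapDerivedCategoryFactors.hom.app X')).1 (h0.trans (by simp)))
  obtain ⟨⟨K'⟩, n, hn, t, ht, hfac⟩ := (CohDerRoofs.boundedAbove_roofs_aux ((Fc F).obj X') ((Fc F).obj N) b).2
    ((HomotopyCategory.quotient _ _).map ((Fc F).map g)) ((HomotopyCategory.quotient _ _).map 0)
    (h1.trans (Functor.map_zero _ _ _).symm)
  obtain ⟨t, rfl⟩ := (HomotopyCategory.quotient A (ComplexShape.up ℤ)).map_surjective (X := K') (Y := (Fc F).obj X') t
  haveI : QuasiIso t := (HomotopyCategory.quotient_map_mem_quasiIso_iff t).1 ht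
  haveI : CochainComplex.IsStrictlyLE K' n := hn
  obtain ⟨E₀, r, _, hr⟩ := exists_approx_map F hP K' n (prop_homology_of_qis F t)
  obtain ⟨t', ht'⟩ := (Fc F).map_surjective (r ≫ t)
  haveI : QuasiIso ((Fc F).map t') := by rw [ht']; infer_instance
  haveI := quasiIso_of_map F t'
  have hz : (HomotopyCategory.quotient _ _).map (t' ≫ g) = 0 := by
    refine (F.mapHomotopyCategory (ComplexShape.up ℤ)).map_injective ?_
    rw [Functor.map_zero]
    show (HomotopyCategory.quotient _ _).map ((Fc F).map (t' ≫ g)) = 0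
    rw [Functor.map_comp, ht', Functor.map_comp, Functor.map_comp, Category.assoc]
    exact (congrArg _ (hfac.trans (by rw [Functor.map_zero, comp_zero]))).trans comp_zero
  have hQ : Q.map (t' ≫ g) = 0 :=
    (DerivedCategory.Q_map_eq_of_homotopy _
      (HomotopyCategory.homotopyOfEq _ _ (hz.trans (Functor.map_zero _ _ _).symm))).trans (Functor.map_zero _ _ _)
  rw [Functor.map_comp] at hQ
  haveI : IsIso (Q.map t') := inferInstance
  rw [(cancel_epi (Q.map t')).1 (hQ.trans comp_zero.symm), comp_zero]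

include hP in
/-- **the bounded above derived category of the class** -/
theorem main :
    (∀ (M N : DerivedCategory B) (b : ℤ), M.IsLE b →
      Function.Bijective (fun φ : M ⟶ N => F.mapDerivedCategory.map φ)) ∧
    ∀ (K : DerivedCategory A) (b : ℤ), K.IsLE b →
      (∀ n : ℤ, F.essImage ((DerivedCategory.homologyFunctor A n).obj K)) →
      ∃ M : DerivedCategory B, M.IsLE b ∧ Nonempty (F.mapDerivedCategory.obj M ≅ K) := by
  refine ⟨fun M N b hM => ?_, fun K b hK hH => ?_⟩
  · obtain ⟨P, _, ⟨eM⟩⟩ := M.exists_iso_Q_obj_of_isLE b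
    let N₀ := DerivedCategory.Q.objPreimage N
    let eN : N ≅ Q.obj N₀ := (DerivedCategory.Q.objObjPreimageIso N).symm
    refine ⟨fun φ φ' h => sub_eq_zero.1 ?_, fun ψ => ?_⟩
    · have := eq_zero_of_map F hP P N₀ b (eM.inv ≫ (φ - φ') ≫ eN.hom) (by
        simp only [Functor.map_comp, Functor.map_sub, show F.mapDerivedCategory.map φ = _ from h, sub_self,
          zero_comp, comp_zero])
      rwa [← cancel_epi eM.inv, ← cancel_mono eN.hom, Category.assoc, comp_zero, zero_comp]
    · obtain ⟨ψ', hψ'⟩ := exists_preimage F hP P N₀ b (F.mapDerivedCategoryFactors.inv.app P ≫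
        (F.mapDerivedCategory.map eM.inv ≫ ψ ≫ F.mapDerivedCategory.map eN.hom) ≫
          F.mapDerivedCategoryFactors.hom.app N₀)
      refine ⟨eM.hom ≫ ψ' ≫ eN.inv, ?_⟩
      have hψ'' : F.mapDerivedCategory.map ψ' = F.mapDerivedCategory.map eM.inv ≫ ψ ≫ F.mapDerivedCategory.map eN.hom := by
        rw [hψ']
        simp only [Category.assoc, Iso.hom_inv_id_app]
        exact (Iso.hom_inv_id_app_assoc _ _ _).trans (congrArg (_ ≫ ·) (congrArg (ψ ≫ ·) (Category.comp_id _)))
      simp [hψ'']
  · obtain ⟨K₀, _, ⟨eK⟩⟩ := K.exists_iso_Q_obj_of_isLE b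
    obtain ⟨E₀, i, _, hi⟩ := exists_approx_map F hP K₀ b fun n => Functor.essImage.ofIso
      ((DerivedCategory.homologyFunctor A n).mapIso eK ≪≫ (DerivedCategory.homologyFunctorFactors A n).app K₀) (hH n)
    exact ⟨Q.obj E₀, inferInstance,
      ⟨F.mapDerivedCategoryFactors.app E₀ ≪≫ asIso (Q.map i) ≪≫ eK.symm⟩⟩

end Groth.Agent.SubRes
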