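import Groth.Agent.SubRes.Derived

/-!
The essential image of a fully faithful exact functor as a lifting class.
-/

set_option autoImplicit false
set_option backward.isDefEq.respectTransparency false
set_option backward.isDefEq.respectTransparency.types false
set_option linter.style.haveILetI false

universe v u v' u'

namespace Groth.Agent.SubRes

open CategoryTheory Limits ZeroObject

variable {A : Type u} [Category.{v} A] [Abelian A] {B : Type u'} [Category.{v'} B] [Abelian B]
  (F : B ⥤ A) [F.Additive] [F.Full] [F.Faithful] [PreservesFiniteLimits F] [PreservesFiniteColimits F]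

theorem liftClass_of_functor
    (hlift : ∀ (X : A) (Y : B) (π : X ⟶ F.obj Y), Epi π → ∃ (X' : B) (i : F.obj X' ⟶ X), Epi (i ≫ π)) :
    LiftClass F.essImage where
  iso e h := Functor.essImage.ofIso e h
  zero := ⟨F.obj 0, F.map_isZero (isZero_zero B), F.obj_mem_essImage _⟩
  biprod := fun ⟨x, ⟨ex⟩⟩ ⟨y, ⟨ey⟩⟩ =>
    haveI := preservesBinaryBiproducts_of_preservesBiproducts F
    ⟨x ⊞ y, ⟨F.mapBiprod x y ≪≫ biprod.mapIso ex ey⟩⟩
  ker := fun {X Y} f ⟨x, ⟨ex⟩⟩ ⟨y, ⟨ey⟩⟩ => by
    obtain ⟨g, hg⟩ := F.map_surjective (ex.hom ≫ f ≫ ey.inv)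
    exact ⟨kernel g, ⟨PreservesKernel.iso F g ≪≫ kernel.mapIso (F.map g) f ex ey (by simp [hg])⟩⟩
  lift := fun {X Y} π hπ ⟨y, ⟨ey⟩⟩ => by
    haveI := hπ
    obtain ⟨X', i, hi⟩ := hlift X y (π ≫ ey.inv) inferInstance
    haveI := hi
    exact ⟨F.obj X', i, F.obj_mem_essImage _, by
      rw [show i ≫ π = (i ≫ π ≫ ey.inv) ≫ ey.hom by simp]
      infer_instance⟩

end Groth.Agent.SubRes
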