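import Groth.Agent.CohDerRes.Left
import Mathlib.CategoryTheory.Abelian.Exact

/-!
Approximating a complex, after an exact functor, by a complex with terms in a class closed under subobjects.
-/

set_option autoImplicit false
set_option linter.unusedSectionVars false
set_option linter.style.haveILetI false
set_option backward.isDefEq.respectTransparency false
set_option backward.isDefEq.respectTransparency.types false

universe v u v' u'

namespace Groth.Agent.SubRes.Rel

open CategoryTheory Limits HomologicalComplex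

variable {A : Type u} [Category.{v} A] [Abelian A] {A' : Type u'} [Category.{v'} A'] [Abelian A']

/-- a class of objects of `A` that covers, after `R`, the objects sent into `P'` -/
structure Cls (R : A ⥤ A') (P : ObjectProperty A) (P' : ObjectProperty A') : Prop where
  zero : ∃ Z : A, IsZero Z ∧ P Z
  biprod : ∀ {X Y : A}, P X → P Y → P (X ⊞ Y)
  ker : ∀ {X Y : A} (f : X ⟶ Y), P X → P (kernel f)
  map : ∀ {X : A}, P X → P' (R.obj X)
  lift : ∀ {V W : A} (π : V ⟶ W), Epi (R.map π) → P' (R.obj W) → ∃ (X' : A) (i : X' ⟶ V), P X' ∧ Epi (R.map (i ≫ π))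

variable {R : A ⥤ A'} [R.Additive] [PreservesFiniteLimits R] [PreservesFiniteColimits R]
  {P : ObjectProperty A} {P' : ObjectProperty A'} {L : ChainComplex A ℕ}

lemma next_eq (k : ℕ) : (ComplexShape.down ℕ).next k = k - 1 := by cases k <;> simp

/-- a level of the approximation -/
structure Lvl (R : A ⥤ A') (P : ObjectProperty A) (L : ChainComplex A ℕ) (k : ℕ) where
  /-- the term -/
  Q : A
  hQ : P Q
  /-- the comparison -/
  α : Q ⟶ L.X k
  /-- the cycles -/
  Z : A
  hZ : P Z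
  /-- their inclusion -/
  z : Z ⟶ Q
  mono : Mono z
  cyc : (z ≫ α) ≫ L.d k (k - 1) = 0
  surj : Epi (R.map (L.liftCycles (z ≫ α) (k - 1) (next_eq k) cyc ≫ L.homologyπ k))

/-- the map on cycles -/
noncomputable def Lvl.zc {k : ℕ} (l : Lvl R P L k) : l.Z ⟶ L.cycles k :=
  L.liftCycles (l.z ≫ l.α) (k - 1) (next_eq k) l.cyc

/-- the cycles mapping to boundaries -/
noncomputable abbrev Lvl.W {k : ℕ} (l : Lvl R P L k) : A := kernel (l.zc ≫ L.homologyπ k)

/-- their preimage upstairs -/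
noncomputable abbrev Lvl.V {k : ℕ} (l : Lvl R P L k) : A :=
  pullback (L.toCycles (k + 1) k) (kernel.ι (l.zc ≫ L.homologyπ k) ≫ l.zc)

lemma Lvl.epi_snd {k : ℕ} (l : Lvl R P L k) :
    Epi (pullback.snd (L.toCycles (k + 1) k) (kernel.ι (l.zc ≫ L.homologyπ k) ≫ l.zc)) := by
  let g : l.W ⟶ L.cycles k := kernel.ι (l.zc ≫ L.homologyπ k) ≫ l.zc
  have hg : g ≫ L.homologyπ k = 0 := (Category.assoc _ _ _).trans (kernel.condition _)
  have hgd : (g ≫ L.iCycles k) ≫ L.d k (k - 1) = 0 := by rw [Category.assoc, iCycles_d, comp_zero]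
  have he : L.liftCycles (g ≫ L.iCycles k) (k - 1) (next_eq k) hgd = g := by
    rw [← cancel_mono (L.iCycles k), liftCycles_i]
  obtain ⟨T, π, hπ, x, hx⟩ := (L.liftCycles_comp_homologyπ_eq_zero_iff_up_to_refinements (k + 1) k (k - 1)
    (by simp) (next_eq k) _ hgd).1 (by rw [he]; exact hg)
  haveI := hπ
  refine epi_of_epi_fac (pullback.lift_snd x π ?_)
  rw [← cancel_mono (L.iCycles k), Category.assoc, toCycles_i, Category.assoc]
  exact hx.symm

variable (hP : Cls R P P') (hH : ∀ k, P' (R.obj (L.homology k)))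

include hP hH in
lemma exists_top (k : ℕ) : ∃ (Y : A) (b : Y ⟶ L.cycles k), P Y ∧ Epi (R.map (b ≫ L.homologyπ k)) :=
  hP.lift (L.homologyπ k) inferInstance (hH k)

include hP hH in
lemma Lvl.exists_next {k : ℕ} (l : Lvl R P L k) : ∃ (l' : Lvl R P L (k + 1)) (d : l'.Q ⟶ l.Q),
    l'.α ≫ L.d (k + 1) k = d ≫ l.α ∧ l'.z ≫ d = 0 ∧
    (∃ w : l'.Q ⟶ l.Z, w ≫ l.z = d) ∧
    (∀ {T : A} (x : T ⟶ l'.Q), x ≫ d = 0 → ∃ w : T ⟶ l'.Z, w ≫ l'.z = x) ∧
    ∃ (X' : A) (p : X' ⟶ l.W) (y : X' ⟶ l'.Q), Epi (R.map p) ∧ y ≫ d = p ≫ kernel.ι _ ≫ l.z := by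
  obtain ⟨X', a, hX', ha⟩ := hP.lift
    (pullback.snd (L.toCycles (k + 1) k) (kernel.ι (l.zc ≫ L.homologyπ k) ≫ l.zc))
    (haveI := l.epi_snd; inferInstance) (hP.map (hP.ker _ l.hZ))
  obtain ⟨Y', b, hY', hb⟩ := exists_top hP hH (k + 1)
  let d : X' ⊞ Y' ⟶ l.Q := biprod.desc (a ≫ pullback.snd _ _ ≫ kernel.ι _ ≫ l.z) 0
  let α : X' ⊞ Y' ⟶ L.X (k + 1) := biprod.desc (a ≫ pullback.fst _ _) (b ≫ L.iCycles (k + 1))
  have hc : α ≫ L.d (k + 1) k = d ≫ l.α := by
    refine biprod.hom_ext' _ _ ?_ ?_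
    · simp only [α, d, biprod.inl_desc_assoc, Category.assoc]
      rw [← L.toCycles_i (k + 1) k, pullback.condition_assoc]
      simp [Lvl.zc]
    · simp [α, d]
  have hcyc : (kernel.ι d ≫ α) ≫ L.d (k + 1) k = 0 := by
    rw [Category.assoc, hc, kernel.condition_assoc, zero_comp]
  have hb' : biprod.inr ≫ d = 0 := biprod.inr_desc _ _
  refine ⟨⟨X' ⊞ Y', hP.biprod hX' hY', α, kernel d, hP.ker d (hP.biprod hX' hY'), kernel.ι d,
    inferInstance, hcyc, ?_⟩, d, hc, kernel.condition d, ⟨biprod.desc (a ≫ pullback.snd _ _ ≫ kernel.ι _) 0, ?_⟩,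
    fun x hx => ⟨kernel.lift _ x hx, kernel.lift_ι _ _ _⟩, X', a ≫ pullback.snd _ _, biprod.inl, ha, ?_⟩
  · haveI := hb
    refine epi_of_epi_fac (f := R.map (kernel.lift d biprod.inr hb')) (h := R.map (b ≫ L.homologyπ (k + 1))) ?_
    rw [← R.map_comp, ← Category.assoc]
    congr 2
    rw [← cancel_mono (L.iCycles (k + 1)), Category.assoc, liftCycles_i, kernel.lift_ι_assoc]
    exact biprod.inr_desc _ _
  · refine biprod.hom_ext' _ _ ?_ ?_ <;> simp [d]
  · simp [d]

include hP hH in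
lemma exists_bot : ∃ l : Lvl R P L 0, ∀ {T : A} (x : T ⟶ l.Q), ∃ w : T ⟶ l.Z, w ≫ l.z = x := by
  obtain ⟨Y, b, hY, hb⟩ := exists_top hP hH 0
  refine ⟨⟨Y, hY, b ≫ L.iCycles 0, Y, hY, 𝟙 Y, inferInstance, by simp, ?_⟩, fun x => ⟨x, Category.comp_id x⟩⟩
  convert hb using 3
  rw [← cancel_mono (L.iCycles 0), liftCycles_i, Category.id_comp]

/-- the levels -/
noncomputable def lvl : ∀ k, Lvl R P L k
  | 0 => (exists_bot hP hH).choose
  | k + 1 => ((lvl k).exists_next hP hH).choose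

/-- the differential -/
noncomputable def dd (k : ℕ) : (lvl hP hH (k + 1)).Q ⟶ (lvl hP hH k).Q :=
  ((lvl hP hH k).exists_next hP hH).choose_spec.choose

lemma dd_spec (k : ℕ) :
    (lvl hP hH (k + 1)).α ≫ L.d (k + 1) k = dd hP hH k ≫ (lvl hP hH k).α ∧
    (lvl hP hH (k + 1)).z ≫ dd hP hH k = 0 ∧
    (∃ w : (lvl hP hH (k + 1)).Q ⟶ (lvl hP hH k).Z, w ≫ (lvl hP hH k).z = dd hP hH k) ∧
    (∀ {T : A} (x : T ⟶ (lvl hP hH (k + 1)).Q), x ≫ dd hP hH k = 0 →
      ∃ w : T ⟶ (lvl hP hH (k + 1)).Z, w ≫ (lvl hP hH (k + 1)).z = x) ∧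
    ∃ (X' : A) (p : X' ⟶ (lvl hP hH k).W) (y : X' ⟶ (lvl hP hH (k + 1)).Q), Epi (R.map p) ∧
      y ≫ dd hP hH k = p ≫ kernel.ι _ ≫ (lvl hP hH k).z :=
  ((lvl hP hH k).exists_next hP hH).choose_spec.choose_spec

/-- the approximating complex -/
noncomputable def res : ChainComplex A ℕ :=
  ChainComplex.of (fun k => (lvl hP hH k).Q) (fun k => dd hP hH k) fun k => by
    obtain ⟨w, hw⟩ := (dd_spec hP hH (k + 1)).2.2.1
    rw [← hw, Category.assoc, (dd_spec hP hH k).2.1, comp_zero]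

lemma res_d (k : ℕ) : (res hP hH).d (k + 1) k = dd hP hH k :=
  ChainComplex.of_d (fun k => (lvl hP hH k).Q) (fun k => dd hP hH k) k

/-- the comparison -/
noncomputable def aug : res hP hH ⟶ L where
  f k := (lvl hP hH k).α
  comm' i j (h : j + 1 = i) := by
    subst h
    rw [res_d]
    exact (dd_spec hP hH j).1

lemma z_d (k : ℕ) : (lvl hP hH k).z ≫ (res hP hH).d k (k - 1) = 0 := by
  cases k with
  | zero => rw [(res hP hH).shape 0 (0 - 1) (by simp), comp_zero]
  | succ k =>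
    change (lvl hP hH (k + 1)).z ≫ (res hP hH).d (k + 1) k = 0
    rw [res_d]
    exact (dd_spec hP hH k).2.1

lemma exists_factor_z (k : ℕ) {T : A} (x : T ⟶ (res hP hH).X k)
    (hx : x ≫ (res hP hH).d k (k - 1) = 0) : ∃ w : T ⟶ (lvl hP hH k).Z, w ≫ (lvl hP hH k).z = x := by
  cases k with
  | zero => exact (exists_bot hP hH).choose_spec x
  | succ k =>
    have hx' : x ≫ (res hP hH).d (k + 1) k = 0 := hx
    rw [res_d] at hx'
    exact (dd_spec hP hH k).2.2.2.1 x hx'

/-- after `R` the comparison is a quasi-isomorphism -/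
theorem isIso_map_homologyMap (k : ℕ) : IsIso (R.map (homologyMap (aug hP hH) k)) := by
  let E := res hP hH
  let l := lvl hP hH k
  let m := homologyMap (aug hP hH) k
  let c : l.Z ⟶ E.cycles k := E.liftCycles l.z (k - 1) (next_eq k) (z_d hP hH k)
  let u : l.Z ⟶ E.homology k := c ≫ E.homologyπ k
  haveI : Epi c := by
    obtain ⟨w, hw⟩ := exists_factor_z hP hH k (E.iCycles k) (E.iCycles_d k (k - 1))
    haveI : IsSplitEpi c := IsSplitEpi.mk' ⟨w, by
      rw [← cancel_mono (E.iCycles k), Category.assoc, liftCycles_i, hw, Category.id_comp]⟩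
    infer_instance
  haveI : Epi u := epi_comp _ _
  have hum : u ≫ m = l.zc ≫ L.homologyπ k := by
    simp only [u, m, Category.assoc, homologyπ_naturality]
    rw [← Category.assoc]
    congr 1
    rw [← cancel_mono (L.iCycles k), Category.assoc, cyclesMap_i]
    simp [c, Lvl.zc, aug, l, E]
  haveI : Epi (R.map (u ≫ m)) := by rw [hum]; exact l.surj
  haveI : Epi (R.map m) := epi_of_epi_fac (R.map_comp u m).symm
  obtain ⟨X', p, y, hp, hy⟩ := (dd_spec hP hH k).2.2.2.2
  have hpu : p ≫ kernel.ι _ ≫ u = 0 := by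
    have hyd : (y ≫ E.d (k + 1) k) = p ≫ kernel.ι _ ≫ l.z := by erw [res_d]; exact hy
    have : p ≫ kernel.ι (l.zc ≫ L.homologyπ k) ≫ c = y ≫ E.toCycles (k + 1) k := by
      rw [← cancel_mono (E.iCycles k), Category.assoc y, toCycles_i, hyd]
      simp [c, l]
    simp only [u]
    rw [← Category.assoc (kernel.ι _), ← Category.assoc p, this, Category.assoc, toCycles_comp_homologyπ, comp_zero]
  haveI : Mono (R.map m) := by
    refine Preadditive.mono_of_kernel_zero ?_
    obtain ⟨T, π, hπ, x, hx⟩ := surjective_up_to_refinements_of_epi (R.map u) (kernel.ι (R.map m))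
    have hxh : x ≫ R.map (l.zc ≫ L.homologyπ k) = 0 := by
      rw [← hum, R.map_comp, ← Category.assoc, ← hx, Category.assoc, kernel.condition, comp_zero]
    let K := kernel.ι (l.zc ≫ L.homologyπ k)
    let w : T ⟶ R.obj l.W := kernel.lift _ x hxh ≫ (PreservesKernel.iso R (l.zc ≫ L.homologyπ k)).inv
    have hw : w ≫ R.map K = x := by
      simp only [w, K, Category.assoc, PreservesKernel.iso_inv_ι]
      exact kernel.lift_ι _ _ _
    have hKu : R.map K ≫ R.map u = 0 := by
      haveI := hp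
      rw [← cancel_epi (R.map p), comp_zero, ← R.map_comp, ← R.map_comp]
      exact (congrArg R.map hpu).trans (R.map_zero _ _)
    rw [← cancel_epi π, comp_zero, hx, ← hw, Category.assoc, hKu, comp_zero]
  exact isIso_of_mono_of_epi _

include hP hH in
/-- approximation of a chain complex -/
theorem exists_chain_approx : ∃ (E : ChainComplex A ℕ) (α : E ⟶ L), (∀ k, P (E.X k)) ∧
    ∀ k, IsIso (R.map (homologyMap α k)) :=
  ⟨res hP hH, aug hP hH, fun k => (lvl hP hH k).hQ, isIso_map_homologyMap hP hH⟩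

include hP in
/-- approximation of a bounded above complex -/
theorem exists_approx (K : CochainComplex A ℤ) (b : ℤ) [K.IsStrictlyLE b]
    (hH : ∀ n, P' (R.obj (K.homology n))) (hiso : ∀ {X Y : A'}, (X ≅ Y) → P' X → P' Y) :
    ∃ (E : CochainComplex A ℤ) (i : E ⟶ K), E.IsStrictlyLE b ∧ (∀ n, P (E.X n)) ∧
      ∀ n, IsIso (R.map (homologyMap i n)) := by
  let e := ComplexShape.embeddingUpIntLE b
  obtain ⟨j⟩ := CohDerRes.nonempty_stupidTrunc_iso e K
  obtain ⟨E₀, α, hE₀, hα⟩ := exists_chain_approx (L := K.restriction e) hP fun k =>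
    hiso (R.mapIso ((isoOfQuasiIsoAt j.hom (e.f k)).symm ≪≫ (K.restriction e).extendHomologyIso e rfl)) (hH _)
  obtain ⟨E, i, hE⟩ := CohDerRes.exists_replace_extend hP.zero e E₀ hE₀
  refine ⟨E, i.hom ≫ extendMap α e ≫ j.hom, isStrictlySupported_of_iso i.symm e, hE, fun n => ?_⟩
  rw [homologyMap_comp, homologyMap_comp, R.map_comp, R.map_comp]
  haveI : IsIso (R.map (homologyMap (extendMap α e) n)) := by
    by_cases hn : ∃ k, e.f k = n
    · obtain ⟨k, hk⟩ := hn
      haveI := hα k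
      rw [show homologyMap (extendMap α e) n = (E₀.extendHomologyIso e hk).hom ≫ homologyMap α k ≫
        ((K.restriction e).extendHomologyIso e hk).inv from by
          rw [← Category.assoc, ← extendHomologyIso_hom_naturality α e hk, Category.assoc, Iso.hom_inv_id,
            Category.comp_id], R.map_comp, R.map_comp]
      infer_instance
    · have hz : ∀ (M : ChainComplex A ℕ), IsZero ((M.extend e).homology n) := fun M =>
        ((exactAt_iff_isZero_homology _ _).1 (M.extend_exactAt e n fun k hk => hn ⟨k, hk⟩))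
      exact (R.map_isZero (hz E₀)).isIso (R.map_isZero (hz _)) _
  infer_instance

end Groth.Agent.SubRes.Rel
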